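import Mathlib
import Groth.Prelude.Def_DescFam
import Groth.Agent.Lib.Helper3.FpqcLocal3

/-!
# Descent of subobjects along fpqc coverings (helper3)
-/

set_option autoImplicit false

universe u

open CategoryTheory CategoryTheory.Limits AlgebraicGeometry

namespace Groth.Agent.H3.QuotFpqc

open Desc

/-- Isomorphisms are local on the target for the fpqc precoverage. -/
instance isomorphisms_fpqc :
    MorphismProperty.IsLocalAtTarget (MorphismProperty.isomorphisms Scheme.{u})
      Scheme.fpqcPrecoverage :=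
  Groth.Agent.H3.FpqcLocal.isLocalAtTarget_fpqc _

/-- A morphism which factors through a monomorphism locally for the fpqc topology factors through
it. -/
theorem exists_lift_of_fpqc_cover {A B W : Scheme.{u}} (m : A ⟶ B) [Mono m] (y : W ⟶ B)
    {R₀ : Presieve W} (hR₀ : R₀ ∈ Scheme.fpqcPrecoverage W)
    (h : ∀ ⦃V : Scheme.{u}⦄ (g : V ⟶ W), R₀ g → ∃ a : V ⟶ A, a ≫ m = g ≫ y) :
    ∃ a : W ⟶ A, a ≫ m = y := by
  have hiso : MorphismProperty.isomorphisms Scheme.{u} (pullback.snd m y) := by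
    refine MorphismProperty.IsLocalAtTarget.of_forall_pullbackSnd
      (P := MorphismProperty.isomorphisms Scheme.{u}) hR₀ ?_
    intro V g _ hg
    obtain ⟨a, ha⟩ := h g hg
    rw [MorphismProperty.isomorphisms.iff]
    let σ : V ⟶ pullback (pullback.snd m y) g :=
      pullback.lift (pullback.lift a g ha) (𝟙 V) (by rw [pullback.lift_snd, Category.id_comp])
    have hσ : σ ≫ pullback.snd (pullback.snd m y) g = 𝟙 V := pullback.lift_snd _ _ _
    have : IsSplitEpi (pullback.snd (pullback.snd m y) g) := IsSplitEpi.mk' ⟨σ, hσ⟩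
    exact isIso_of_mono_of_isSplitEpi _
  rw [MorphismProperty.isomorphisms.iff] at hiso
  exact ⟨inv (pullback.snd m y) ≫ pullback.fst m y, by
    rw [Category.assoc, pullback.condition, IsIso.inv_hom_id_assoc]⟩

section dd

variable {S : Scheme.{u}} {ι : Type u} {X : ι → Scheme.{u}} (f : ∀ i, X i ⟶ S)
  (obj : ∀ i, Over (X i)) [hmono : ∀ i, Mono (obj i).hom]

instance subsingleton_lifts {T : Scheme.{u}} (i : ι) (x : T ⟶ X i) :
    Subsingleton (Lifts (obj i) x) :=
  ⟨fun a b => Subtype.ext ((cancel_mono (obj i).hom).1 (a.2.trans b.2.symm))⟩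

/-- A family of subobjects whose points are compatible with the covering carries a unique descent
datum. -/
noncomputable def ddOfMono
    (H : ∀ ⦃T : Scheme.{u}⦄ ⦃i j : ι⦄ (x₀ : T ⟶ X i) (x₁ : T ⟶ X j), x₀ ≫ f i = x₁ ≫ f j →
      Nonempty (Lifts (obj i) x₀) → Nonempty (Lifts (obj j) x₁)) : SchDDFam f where
  obj := obj
  φ T i j x₀ x₁ h :=
    { toFun := fun v => (H x₀ x₁ h ⟨v⟩).some
      invFun := fun v => (H x₁ x₀ h.symm ⟨v⟩).some
      left_inv := fun v => Subsingleton.elim _ _
      right_inv := fun v => Subsingleton.elim _ _ }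
  φ_natural T T' g i j x₀ x₁ h y₀ y₁ hy₀ hy₁ h' v v' hv' := by
    apply (cancel_mono (obj j).hom).1
    have h1 := ((H y₀ y₁ h' ⟨v'⟩).some).2
    have h2 := ((H x₀ x₁ h ⟨v⟩).some).2
    rw [Category.assoc]
    exact h1.trans (by rw [← hy₁]; exact congrArg (g ≫ ·) h2.symm)
  φ_self T i x v := Subsingleton.elim _ _
  φ_comp T i j k x₀ x₁ x₂ h₀₁ h₁₂ v := Subsingleton.elim _ _

/-- **Descent of subobjects.** Let `P` be a class of monomorphisms, local on the target for the
fpqc topology, for which descent data relative to fpqc coverings are effective. A family of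
`P`-subobjects of the members of an fpqc covering, with compatible points, descends to a
`P`-subobject of the base. -/
theorem exists_isPullback_of_mono (P : MorphismProperty Scheme.{u})
    [P.IsLocalAtTarget Scheme.fpqcPrecoverage]
    (heff : ∀ (D : SchDDFam f), (∀ i, P (D.obj i).hom) → D.IsEffective)
    (hf : Presieve.ofArrows X f ∈ Scheme.fpqcPrecoverage S) (hP : ∀ i, P (obj i).hom)
    (H : ∀ ⦃T : Scheme.{u}⦄ ⦃i j : ι⦄ (x₀ : T ⟶ X i) (x₁ : T ⟶ X j), x₀ ≫ f i = x₁ ≫ f j →
      Nonempty (Lifts (obj i) x₀) → Nonempty (Lifts (obj j) x₁)) :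
    ∃ (Z : Scheme.{u}) (ζ : Z ⟶ S) (a : ∀ i, (obj i).left ⟶ Z), P ζ ∧
      ∀ i, IsPullback (a i) (obj i).hom ζ (f i) := by
  obtain ⟨Z₀, ⟨E⟩⟩ := heff (ddOfMono f obj H) hP
  have hw : ∀ i, (E.hom.hom i).left ≫ (obj i).hom = pullback.fst (f i) Z₀.hom :=
    fun i => Over.w (E.hom.hom i)
  have h1 : ∀ i, (E.hom.hom i).left ≫ (E.inv.hom i).left = 𝟙 _ := fun i => by
    have := congrArg (fun m => (m.hom i).left) E.hom_inv_id
    exact this
  have h2 : ∀ i, (E.inv.hom i).left ≫ (E.hom.hom i).left = 𝟙 _ := fun i => by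
    have := congrArg (fun m => (m.hom i).left) E.inv_hom_id
    exact this
  let e : ∀ i, pullback (f i) Z₀.hom ≅ (obj i).left := fun i =>
    ⟨(E.hom.hom i).left, (E.inv.hom i).left, h1 i, h2 i⟩
  have sq : ∀ i, IsPullback ((e i).inv ≫ pullback.snd (f i) Z₀.hom) (obj i).hom Z₀.hom (f i) := by
    intro i
    refine IsPullback.of_iso (IsPullback.of_hasPullback (f i) Z₀.hom).flip (e i) (Iso.refl _)
      (Iso.refl _) (Iso.refl _) ?_ ?_ ?_ ?_
    · simp
    · rw [Iso.refl_hom, Category.comp_id]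
      exact (hw i).symm
    · simp
    · simp
  refine ⟨Z₀.left, Z₀.hom, fun i => (e i).inv ≫ pullback.snd (f i) Z₀.hom, ?_, sq⟩
  refine MorphismProperty.IsLocalAtTarget.of_forall_pullbackSnd (P := P) hf ?_
  rintro V g _ ⟨i⟩
  rw [← P.cancel_left_of_respectsIso (sq i).isoPullback.hom, (sq i).isoPullback_hom_snd]
  exact hP i

end dd

end Groth.Agent.H3.QuotFpqc
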