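import Mathlib

/-!
# Points related by an internal equivalence relation (helper3)
-/

set_option autoImplicit false

universe v u

open CategoryTheory CategoryTheory.Limits

namespace Groth.Agent.H3.QuotFpqc

section cat

variable {C : Type u} [Category.{v} C] {R U : C} (s t : R ⟶ U)

/-- Two `Z`-points of `U` are related by the relation `s, t : R ⇉ U`. -/
def Rel {Z : C} (a b : Z ⟶ U) : Prop := ∃ r : Z ⟶ R, r ≫ s = a ∧ r ≫ t = b

variable {s t}

lemma Rel.precomp {Z Z' : C} (g : Z' ⟶ Z) {a b : Z ⟶ U} (h : Rel s t a b) :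
    Rel s t (g ≫ a) (g ≫ b) := by
  obtain ⟨r, h1, h2⟩ := h
  exact ⟨g ≫ r, by rw [Category.assoc, h1], by rw [Category.assoc, h2]⟩

lemma Rel.congr {Z : C} {a b a' b' : Z ⟶ U} (h : Rel s t a b) (ha : a = a') (hb : b = b') :
    Rel s t a' b' := by
  subst ha hb
  exact h

variable [he : IsEquivalenceRelation s t]

include he in
lemma Rel.refl {Z : C} (a : Z ⟶ U) : Rel s t a a := by
  obtain ⟨e⟩ := he.nonempty_equivalenceRelation
  exact ⟨a ≫ e.r, by rw [Category.assoc, e.reflexivity₁, Category.comp_id],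
    by rw [Category.assoc, e.reflexivity₂, Category.comp_id]⟩

include he in
lemma Rel.symm {Z : C} {a b : Z ⟶ U} (h : Rel s t a b) : Rel s t b a := by
  obtain ⟨e⟩ := he.nonempty_equivalenceRelation
  obtain ⟨r, h1, h2⟩ := h
  exact ⟨r ≫ e.s, by rw [Category.assoc, e.symmetry₁, h2], by rw [Category.assoc, e.symmetry₂, h1]⟩

include he in
lemma Rel.trans {Z : C} {a b c : Z ⟶ U} (h : Rel s t a b) (h' : Rel s t b c) : Rel s t a c := by
  obtain ⟨e⟩ := he.nonempty_equivalenceRelation
  obtain ⟨r, h1, h2⟩ := h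
  obtain ⟨r', h1', h2'⟩ := h'
  let l : Z ⟶ e.c.pt := PullbackCone.IsLimit.lift e.isLimit r r' (by rw [h2, h1'])
  have hl1 : l ≫ e.c.fst = r := PullbackCone.IsLimit.lift_fst _ _ _ _
  have hl2 : l ≫ e.c.snd = r' := PullbackCone.IsLimit.lift_snd _ _ _ _
  refine ⟨l ≫ e.t, ?_, ?_⟩
  · rw [Category.assoc, e.transitivity₁, ← Category.assoc, hl1, h1]
  · rw [Category.assoc, e.transitivity₂, ← Category.assoc, hl2, h2']

include he in
lemma jointly_mono {Z : C} {r r' : Z ⟶ R} (h1 : r ≫ s = r' ≫ s) (h2 : r ≫ t = r' ≫ t) :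
    r = r' := by
  obtain ⟨e⟩ := he.nonempty_equivalenceRelation
  exact e.toReflexiveRelation.toJointlyMono₂.right_cancellation _ _ h1 h2

end cat

section cart

open CartesianMonoidalCategory

variable {C : Type u} [Category.{v} C] [CartesianMonoidalCategory C] {R U : C} {s t : R ⟶ U}

lemma rel_iff_lift {Z : C} (a b : Z ⟶ U) :
    Rel s t a b ↔ ∃ r : Z ⟶ R, r ≫ lift t s = lift b a := by
  constructor
  · rintro ⟨r, h1, h2⟩
    exact ⟨r, by rw [comp_lift, h1, h2]⟩
  · rintro ⟨r, h⟩
    refine ⟨r, ?_, ?_⟩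
    · have := congrArg (fun k => k ≫ snd U U) h
      simpa using this
    · have := congrArg (fun k => k ≫ fst U U) h
      simpa using this

lemma mono_lift [he : IsEquivalenceRelation s t] : Mono (lift t s) := by
  refine ⟨fun {Z} f g h => ?_⟩
  apply jointly_mono (s := s) (t := t)
  · have := congrArg (fun k => k ≫ snd U U) h
    simpa using this
  · have := congrArg (fun k => k ≫ fst U U) h
    simpa using this

end cart

end Groth.Agent.H3.QuotFpqc
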