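import Mathlib
import Groth.Agent.Lib.Helper3.QuotFpqc.Rel
import Groth.Agent.Lib.Helper3.QuotShEff

/-!
# Sections of the quotient sheaf `U/R` (helper3)
-/

set_option autoImplicit false

universe u

open CategoryTheory CategoryTheory.Limits AlgebraicGeometry Opposite

namespace Groth.Agent.H3.QuotFpqc

open Groth.Agent.H3.QuotShEff

open Groth.Agent.S7490 (F F_map)

variable (K : Precoverage Scheme.{u}) {S : Scheme.{u}}

/-- A covering family for `K` yields a covering sieve of the big site. -/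
lemma ofArrows_mem_J {T : Over S} {ι : Type*} (Ti : ι → Over S) (c : ∀ i, Ti i ⟶ T)
    (hcov : Presieve.ofArrows (fun i => (Ti i).left) (fun i => (c i).left) ∈ K T.left) :
    Sieve.ofArrows Ti c ∈ QuotSh.J K S T := by
  rw [GrothendieckTopology.mem_over_iff, Sieve.overEquiv_ofArrows]
  exact Precoverage.generate_mem_toGrothendieck hcov

/-- Smallness of coverings. -/
lemma exists_small_subfamily [Precoverage.Small.{u} K] {X : Scheme.{u}} {R₀ : Presieve X}
    (h : R₀ ∈ K X) :
    ∃ (ι : Type u) (Y : ι → Scheme.{u}) (f : ∀ i, Y i ⟶ X),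
      Presieve.ofArrows Y f ∈ K X ∧ ∀ i, R₀ (f i) := by
  obtain ⟨𝒰, rfl⟩ := Precoverage.mem_iff_exists_zeroHypercover.1 h
  exact ⟨(𝒰.restrictIndexOfSmall.{u}).I₀, (𝒰.restrictIndexOfSmall.{u}).X,
    (𝒰.restrictIndexOfSmall.{u}).f, (𝒰.restrictIndexOfSmall.{u}).mem₀, fun i => ⟨_⟩⟩

variable [(QuotSh.J K S).Subcanonical]

/-- Sections of a sheaf over `T` as morphisms from the representable sheaf. -/
noncomputable abbrev yonK (K : Precoverage Scheme.{u}) (S : Scheme.{u})
    [(QuotSh.J K S).Subcanonical] : Over S ⥤ QuotSh.Sh K S :=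
  (QuotSh.J K S).uliftYoneda.{u + 1}

variable {K}

/-- Uniqueness of sections on a covering. -/
theorem hom_ext_of_cover {T : Over S} {ι : Type*} (Ti : ι → Over S) (c : ∀ i, Ti i ⟶ T)
    (hcov : Presieve.ofArrows (fun i => (Ti i).left) (fun i => (c i).left) ∈ K T.left)
    {G : QuotSh.Sh K S} (x y : (yonK K S).obj T ⟶ G)
    (h : ∀ i, (yonK K S).map (c i) ≫ x = (yonK K S).map (c i) ≫ y) : x = y := by
  have hG : Presieve.IsSheaf (QuotSh.J K S) G.obj := (isSheaf_iff_isSheaf_of_type _ _).1 G.property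
  apply (QuotSh.J K S).uliftYonedaEquiv.injective
  apply (hG _ (ofArrows_mem_J K Ti c hcov)).isSeparatedFor.ext
  rintro Z g ⟨Y, k, _, ⟨i⟩, rfl⟩
  rw [GrothendieckTopology.uliftYonedaEquiv_naturality,
    GrothendieckTopology.uliftYonedaEquiv_naturality, Functor.map_comp, Category.assoc,
    Category.assoc, h i]

/-- Gluing of sections on a covering. -/
theorem exists_desc_of_cover {T : Over S} {ι : Type*} (Ti : ι → Over S) (c : ∀ i, Ti i ⟶ T)
    (hcov : Presieve.ofArrows (fun i => (Ti i).left) (fun i => (c i).left) ∈ K T.left)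
    {G : QuotSh.Sh K S} (xi : ∀ i, (yonK K S).obj (Ti i) ⟶ G)
    (hx : ∀ (i j : ι) (W : Over S) (k₁ : W ⟶ Ti i) (k₂ : W ⟶ Ti j), k₁ ≫ c i = k₂ ≫ c j →
      (yonK K S).map k₁ ≫ xi i = (yonK K S).map k₂ ≫ xi j) :
    ∃ x : (yonK K S).obj T ⟶ G, ∀ i, (yonK K S).map (c i) ≫ x = xi i := by
  have hG : Presieve.IsSheaf (QuotSh.J K S) G.obj := (isSheaf_iff_isSheaf_of_type _ _).1 G.property
  have hsh : Presieve.IsSheafFor G.obj (Presieve.ofArrows Ti c) :=
    (Presieve.isSheafFor_iff_generate _).2 (hG _ (ofArrows_mem_J K Ti c hcov))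
  rw [Presieve.isSheafFor_arrows_iff] at hsh
  obtain ⟨t, ht, -⟩ := hsh (fun i => (QuotSh.J K S).uliftYonedaEquiv (xi i)) (by
    intro i j W k₁ k₂ hk
    rw [GrothendieckTopology.uliftYonedaEquiv_naturality,
      GrothendieckTopology.uliftYonedaEquiv_naturality, hx i j W k₁ k₂ hk])
  refine ⟨(QuotSh.J K S).uliftYonedaEquiv.symm t, fun i => ?_⟩
  apply (QuotSh.J K S).uliftYonedaEquiv.injective
  rw [← GrothendieckTopology.uliftYonedaEquiv_naturality, Equiv.apply_symm_apply, ht i]

/-- Local lifting of sections along an epimorphism of sheaves. -/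
theorem exists_local_lifts [K.IsStableUnderComposition] [K.IsStableUnderBaseChange]
    [K.HasPullbacks] [K.HasIsos] [Precoverage.Small.{u} K] {G G' : QuotSh.Sh K S} (p : G ⟶ G')
    [Epi p] {T : Over S} (σ : (yonK K S).obj T ⟶ G') :
    ∃ (ι : Type u) (Ti : ι → Over S) (c : ∀ i, Ti i ⟶ T) (x : ∀ i, (yonK K S).obj (Ti i) ⟶ G),
      Presieve.ofArrows (fun i => (Ti i).left) (fun i => (c i).left) ∈ K T.left ∧
      ∀ i, (yonK K S).map (c i) ≫ σ = x i ≫ p := by
  have hls : Sheaf.IsLocallySurjective p := (Sheaf.isLocallySurjective_iff_epi p).2 inferInstance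
  have hmem := Presheaf.imageSieve_mem (QuotSh.J K S) p.hom
    ((QuotSh.J K S).uliftYonedaEquiv σ)
  rw [GrothendieckTopology.mem_over_iff,
    Precoverage.mem_toGrothendieck_iff_of_isStableUnderComposition] at hmem
  obtain ⟨R₀, hR₀, hle⟩ := hmem
  obtain ⟨ι, Y, f, hf, hfR⟩ := exists_small_subfamily K hR₀
  have hex : ∀ i, ∃ a : G.obj.obj (op (Over.mk (f i ≫ T.hom))),
      p.hom.app _ a = G'.obj.map (Over.homMk (f i) rfl : Over.mk (f i ≫ T.hom) ⟶ T).op
        ((QuotSh.J K S).uliftYonedaEquiv σ) := by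
    intro i
    have h1 := hle _ _ (hfR i)
    rw [Sieve.overEquiv_iff] at h1
    exact h1
  choose a ha using hex
  refine ⟨ι, fun i => Over.mk (f i ≫ T.hom), fun i => Over.homMk (f i) rfl,
    fun i => (QuotSh.J K S).uliftYonedaEquiv.symm (a i), hf, fun i => ?_⟩
  apply (QuotSh.J K S).uliftYonedaEquiv.injective
  dsimp only
  rw [← (QuotSh.J K S).uliftYonedaEquiv_naturality σ
      (Over.homMk (f i) rfl : Over.mk (f i ≫ T.hom) ⟶ T), ← ha i,
    (QuotSh.J K S).uliftYonedaEquiv_comp ((QuotSh.J K S).uliftYonedaEquiv.symm (a i)) p,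
    Equiv.apply_symm_apply]

section quot

variable {R U : Over S} (s t : R ⟶ U) [IsEquivalenceRelation s t]

variable (K) in
/-- The quotient map from the representable sheaf of `U`. -/
noncomputable def q : (yonK K S).obj U ⟶ QuotSh.quot K s t :=
  (FIso K S).hom.app U ≫ QuotSh.quotπ K s t

instance : Epi (q K s t) := by
  have h1 : Epi (QuotSh.quotπ K s t) :=
    (coequalizer.π_epi : Epi (coequalizer.π (QuotSh.repMap K s) (QuotSh.repMap K t)))
  exact @epi_comp _ _ _ _ _ ((FIso K S).hom.app U) inferInstance (QuotSh.quotπ K s t) h1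

variable (K) in
/-- The quotient map has kernel pair `(s, t)`. -/
theorem isKernelPair_quotπ :
    IsKernelPair (QuotSh.quotπ K s t) (QuotSh.repMap K s) (QuotSh.repMap K t) := by
  obtain ⟨er⟩ := IsEquivalenceRelation.nonempty_equivalenceRelation (p₁ := s) (p₂ := t)
  have hjm : JointlyMono₂ ((F K S).map s) ((F K S).map t) :=
    jointlyMono₂_of_natIso (FIso K S) (jointlyMono₂_uliftYoneda K s t er.toJointlyMono₂)
  have er' : EquivalenceRelation (QuotSh.repMap K s) (QuotSh.repMap K t) :=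
    mapEquivalenceRelation (F K S) er hjm
  have : IsEquivalenceRelation (QuotSh.repMap K s) (QuotSh.repMap K t) :=
    er'.isEquivalenceRelation
  obtain ⟨⟨e⟩⟩ := Groth.Agent.S5217.result (QuotSh.J K S) (QuotSh.repMap K s) (QuotSh.repMap K t)
  exact (Groth.Agent.H3.GrpQuot.coequalizer_isKernelPair_and_UEE e).1

/-- Two points of `U` have the same image in `U/R` iff they are related. -/
theorem map_q_eq_iff {Z : Over S} (a b : Z ⟶ U) :
    (yonK K S).map a ≫ q K s t = (yonK K S).map b ≫ q K s t ↔ Rel s t a b := by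
  have hnat : ∀ {V W : Over S} (g : V ⟶ W), (yonK K S).map g ≫ (FIso K S).hom.app W =
      (FIso K S).hom.app V ≫ (F K S).map g := fun g => (FIso K S).hom.naturality g
  have hk := isKernelPair_quotπ K s t
  have key : (yonK K S).map a ≫ q K s t = (yonK K S).map b ≫ q K s t ↔
      (F K S).map a ≫ QuotSh.quotπ K s t = (F K S).map b ≫ QuotSh.quotπ K s t := by
    unfold q
    rw [← Category.assoc, ← Category.assoc, hnat, hnat, Category.assoc, Category.assoc,
      cancel_epi]
  rw [key]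
  constructor
  · intro h
    obtain ⟨r, hr⟩ := (F K S).map_surjective (hk.lift _ _ h)
    refine ⟨r, ?_, ?_⟩
    · apply (F K S).map_injective
      rw [Functor.map_comp, hr]
      exact hk.lift_fst _ _ h
    · apply (F K S).map_injective
      rw [Functor.map_comp, hr]
      exact hk.lift_snd _ _ h
  · rintro ⟨r, rfl, rfl⟩
    rw [Functor.map_comp, Functor.map_comp, Category.assoc, Category.assoc]
    exact congrArg ((F K S).map r ≫ ·) (QuotSh.quot_condition K s t)

end quot

end Groth.Agent.H3.QuotFpqc
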