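import Mathlib
import Groth.Agent.Lib.Helper3.QuotFpqc.Rel
import Groth.Agent.Lib.Helper3.QuotFpqc.MonoDesc
import Groth.Agent.Lib.Helper3.GrpQuot1

/-!
# The subscheme of `U ×_S T` attached to a locally given section of `U/R` (helper3)
-/

set_option autoImplicit false

universe u

open CategoryTheory CategoryTheory.Limits AlgebraicGeometry MonoidalCategory
  CartesianMonoidalCategory

namespace Groth.Agent.H3.QuotFpqc

open Desc Groth.Agent.H3.GrpQuot

variable {S : Scheme.{u}}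

/-- Base change of a covering family, in `Over S`. -/
lemma pullback_family_mem (K : Precoverage Scheme.{u}) [K.IsStableUnderBaseChange] {T W : Over S}
    (τ₀ : W ⟶ T) {ι : Type*} (Ti : ι → Over S) (c : ∀ i, Ti i ⟶ T)
    (hcov : Presieve.ofArrows (fun i => (Ti i).left) (fun i => (c i).left) ∈ K T.left) :
    Presieve.ofArrows (fun i => (pullback τ₀ (c i)).left)
      (fun i => (pullback.fst τ₀ (c i)).left) ∈ K W.left :=
  Precoverage.mem_coverings_of_isPullback _ hcov τ₀.left _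
    (fun i => (pullback.snd τ₀ (c i)).left)
    (fun i => (IsPullback.of_hasPullback τ₀ (c i)).map (Over.forget S))

/-- A morphism over `S` which factors through a monomorphism locally for the fpqc topology
factors through it. -/
theorem exists_lift_over {A B W : Over S} (m : A ⟶ B) [Mono m.left] (y : W ⟶ B) {ι : Type*}
    (Vi : ι → Over S) (g : ∀ i, Vi i ⟶ W)
    (hcov : Presieve.ofArrows (fun i => (Vi i).left) (fun i => (g i).left) ∈
      Scheme.fpqcPrecoverage W.left)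
    (h : ∀ i, ∃ a : Vi i ⟶ A, a ≫ m = g i ≫ y) : ∃ a : W ⟶ A, a ≫ m = y := by
  obtain ⟨a₀, ha₀⟩ := exists_lift_of_fpqc_cover m.left y.left hcov (by
    rintro V g' ⟨i⟩
    obtain ⟨a, ha⟩ := h i
    exact ⟨a.left, congrArg (fun k => k.left) ha⟩)
  refine ⟨Over.homMk a₀ ?_, ?_⟩
  · rw [← Over.w m, ← Category.assoc, ha₀, Over.w y]
  · ext
    exact ha₀

/-- The relation descends along fpqc coverings. -/
theorem rel_of_fpqc {R U : Over S} {s t : R ⟶ U} [IsEquivalenceRelation s t] {W : Over S}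
    (a b : W ⟶ U) {ι : Type*} (Vi : ι → Over S) (g : ∀ i, Vi i ⟶ W)
    (hcov : Presieve.ofArrows (fun i => (Vi i).left) (fun i => (g i).left) ∈
      Scheme.fpqcPrecoverage W.left)
    (h : ∀ i, Rel s t (g i ≫ a) (g i ≫ b)) : Rel s t a b := by
  have : Mono (lift t s) := mono_lift
  have : Mono (lift t s).left := inferInstance
  rw [rel_iff_lift]
  apply exists_lift_over (lift t s) (lift b a) Vi g hcov
  intro i
  obtain ⟨r, hr⟩ := (rel_iff_lift _ _).1 (h i)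
  exact ⟨r, by rw [hr, comp_lift]⟩

/-- **Descent of subobjects, over `S`.** -/
theorem exists_sub_over (P : MorphismProperty Scheme.{u})
    [P.IsLocalAtTarget Scheme.fpqcPrecoverage]
    (hPmono : ∀ {X Y : Scheme.{u}} (f : X ⟶ Y), P f → Mono f)
    (heff : ∀ {S₀ : Scheme.{u}} {ι : Type u} {X : ι → Scheme.{u}} (f : ∀ i, X i ⟶ S₀),
      Presieve.ofArrows X f ∈ Scheme.fpqcPrecoverage S₀ → ∀ D : SchDDFam f,
      (∀ i, P (D.obj i).hom) → D.IsEffective)
    {Y : Over S} {ι : Type u} (Yi : ι → Over S) (fi : ∀ i, Yi i ⟶ Y)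
    (hcov : Presieve.ofArrows (fun i => (Yi i).left) (fun i => (fi i).left) ∈
      Scheme.fpqcPrecoverage Y.left)
    (Pi : ι → Over S) (mi : ∀ i, Pi i ⟶ Yi i) (hm : ∀ i, P (mi i).left)
    (H : ∀ ⦃i j : ι⦄ ⦃W : Over S⦄ (x₀ : W ⟶ Yi i) (x₁ : W ⟶ Yi j), x₀ ≫ fi i = x₁ ≫ fi j →
      (∃ v : W ⟶ Pi i, v ≫ mi i = x₀) → ∃ v : W ⟶ Pi j, v ≫ mi j = x₁) :
    ∃ (Z : Over S) (ζ : Z ⟶ Y) (a : ∀ i, Pi i ⟶ Z), P ζ.left ∧
      ∀ i, IsPullback (a i) (mi i) ζ (fi i) := by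
  let obj : ∀ i, Over (Yi i).left := fun i => Over.mk (mi i).left
  have hmono : ∀ i, Mono (obj i).hom := fun i => hPmono _ (hm i)
  have H₀ : ∀ ⦃T₀ : Scheme.{u}⦄ ⦃i j : ι⦄ (x₀ : T₀ ⟶ (Yi i).left) (x₁ : T₀ ⟶ (Yi j).left),
      x₀ ≫ (fi i).left = x₁ ≫ (fi j).left →
      Nonempty (Lifts (obj i) x₀) → Nonempty (Lifts (obj j) x₁) := by
    rintro T₀ i j x₀ x₁ hx ⟨v⟩
    have e : x₁ ≫ (Yi j).hom = x₀ ≫ (Yi i).hom := by
      rw [← Over.w (fi j), ← Over.w (fi i), ← Category.assoc, ← Category.assoc, hx]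
    let W : Over S := Over.mk (x₀ ≫ (Yi i).hom)
    let X₀ : W ⟶ Yi i := Over.homMk x₀ rfl
    let X₁ : W ⟶ Yi j := Over.homMk x₁ e
    have hX : X₀ ≫ fi i = X₁ ≫ fi j := by
      ext
      exact hx
    have hv : v.1 ≫ (mi i).left = x₀ := v.2
    let V : W ⟶ Pi i := Over.homMk v.1 (by
      change v.1 ≫ (Pi i).hom = x₀ ≫ (Yi i).hom
      rw [← Over.w (mi i), ← Category.assoc, hv])
    obtain ⟨V', hV'⟩ := H X₀ X₁ hX ⟨V, by ext; exact hv⟩
    exact ⟨⟨V'.left, congrArg (fun k => k.left) hV'⟩⟩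
  obtain ⟨Z₀, ζ₀, a₀, hζ₀, sq₀⟩ := exists_isPullback_of_mono (fun i => (fi i).left) obj P
    (heff _ hcov) hcov hm H₀
  have hw : ∀ i, a₀ i ≫ ζ₀ = (mi i).left ≫ (fi i).left := fun i => (sq₀ i).w
  let Z : Over S := Over.mk (ζ₀ ≫ Y.hom)
  let ζ : Z ⟶ Y := Over.homMk ζ₀ rfl
  let a : ∀ i, Pi i ⟶ Z := fun i => Over.homMk (a₀ i) (by
    change a₀ i ≫ ζ₀ ≫ Y.hom = (Pi i).hom
    rw [← Category.assoc, hw, Category.assoc, Over.w (fi i), Over.w (mi i)])
  refine ⟨Z, ζ, a, hζ₀, fun i => ?_⟩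
  apply IsPullback.of_map_of_faithful (Over.forget S)
  exact sq₀ i

section sub

variable {R U : Over S} (s t : R ⟶ U) {T : Over S} {ι : Type u}
  (Ti : ι → Over S) (c : ∀ i, Ti i ⟶ T) (ui : ∀ i, Ti i ⟶ U)

/-- Compatibility of local representatives of a section of the quotient. -/
def Compat : Prop := ∀ ⦃i j : ι⦄ ⦃W : Over S⦄ (k₁ : W ⟶ Ti i) (k₂ : W ⟶ Ti j),
  k₁ ≫ c i = k₂ ≫ c j → Rel s t (k₁ ≫ ui i) (k₂ ≫ ui j)

lemma lifts_iff_rel (i : ι) {W : Over S} (X : W ⟶ U ⊗ Ti i) :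
    (∃ v : W ⟶ pullback (U ◁ ui i) (lift t s), v ≫ pullback.fst _ _ = X) ↔
      Rel s t (X ≫ snd _ _ ≫ ui i) (X ≫ fst _ _) := by
  constructor
  · rintro ⟨v, rfl⟩
    refine ⟨v ≫ pullback.snd _ _, ?_, ?_⟩
    · have := congrArg (fun k => v ≫ k ≫ snd U U)
        (pullback.condition (f := U ◁ ui i) (g := lift t s))
      simpa using this.symm
    · have := congrArg (fun k => v ≫ k ≫ fst U U)
        (pullback.condition (f := U ◁ ui i) (g := lift t s))
      simpa using this.symm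
  · rintro ⟨ρ, h1, h2⟩
    refine ⟨pullback.lift X ρ ?_, pullback.lift_fst _ _ _⟩
    apply CartesianMonoidalCategory.hom_ext
    · simp [h2]
    · simp [h1]

variable {Z : Over S} (ζ : Z ⟶ U ⊗ T)

/-- `ζ : Z ⟶ U ×_S T` is the subobject of pairs `(υ, τ)` such that `υ` represents the section
given locally by the `ui`. -/
def IsSub : Prop := ∀ (i : ι) ⦃W : Over S⦄ (X : W ⟶ U ⊗ Ti i),
  (∃ z : W ⟶ Z, z ≫ ζ = X ≫ (U ◁ c i)) ↔ Rel s t (X ≫ snd _ _ ≫ ui i) (X ≫ fst _ _)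

variable {s t Ti c ui ζ}

lemma IsSub.rel_of_factors (h : IsSub s t Ti c ui ζ) {W : Over S} (z : W ⟶ Z) (i : ι)
    {V : Over S} (G : V ⟶ W) (τ : V ⟶ Ti i) (hτ : τ ≫ c i = G ≫ z ≫ ζ ≫ snd U T) :
    Rel s t (τ ≫ ui i) (G ≫ z ≫ ζ ≫ fst U T) := by
  have key : (G ≫ z) ≫ ζ = lift (G ≫ z ≫ ζ ≫ fst U T) τ ≫ (U ◁ c i) := by
    rw [lift_whiskerLeft, hτ]
    apply CartesianMonoidalCategory.hom_ext <;> simp
  have := (h i _).1 ⟨G ≫ z, key⟩
  simpa using this

lemma IsSub.factors_of_rel (h : IsSub s t Ti c ui ζ) [Mono ζ.left]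
    (hcov : Presieve.ofArrows (fun i => (Ti i).left) (fun i => (c i).left) ∈
      Scheme.fpqcPrecoverage T.left) {W : Over S} (y : W ⟶ U ⊗ T)
    (hy : ∀ (i : ι) ⦃V : Over S⦄ (G : V ⟶ W) (τ : V ⟶ Ti i), τ ≫ c i = G ≫ y ≫ snd U T →
      Rel s t (τ ≫ ui i) (G ≫ y ≫ fst U T)) : ∃ z : W ⟶ Z, z ≫ ζ = y := by
  apply exists_lift_over ζ y (fun i => pullback (y ≫ snd U T) (c i)) (fun i => pullback.fst _ _)
    (pullback_family_mem Scheme.fpqcPrecoverage (y ≫ snd U T) Ti c hcov)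
  intro i
  have hrel := hy i (pullback.fst (y ≫ snd U T) (c i)) (pullback.snd (y ≫ snd U T) (c i))
    pullback.condition.symm
  obtain ⟨z, hz⟩ := (h i (lift (pullback.fst (y ≫ snd U T) (c i) ≫ y ≫ fst U T)
    (pullback.snd (y ≫ snd U T) (c i)))).2 (by simpa using hrel)
  refine ⟨z, hz.trans ?_⟩
  rw [lift_whiskerLeft]
  apply CartesianMonoidalCategory.hom_ext
  · rw [lift_fst, Category.assoc]
  · rw [lift_snd, Category.assoc]
    exact pullback.condition.symm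

lemma IsSub.factors_iff (h : IsSub s t Ti c ui ζ) [Mono ζ.left]
    (hcov : Presieve.ofArrows (fun i => (Ti i).left) (fun i => (c i).left) ∈
      Scheme.fpqcPrecoverage T.left) {W : Over S} (y : W ⟶ U ⊗ T) :
    (∃ z : W ⟶ Z, z ≫ ζ = y) ↔
      ∀ (i : ι) ⦃V : Over S⦄ (G : V ⟶ W) (τ : V ⟶ Ti i), τ ≫ c i = G ≫ y ≫ snd U T →
        Rel s t (τ ≫ ui i) (G ≫ y ≫ fst U T) := by
  constructor
  · rintro ⟨z, rfl⟩ i V G τ hτ
    have := h.rel_of_factors z i G τ (by simpa using hτ)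
    simpa using this
  · exact h.factors_of_rel hcov y

variable [IsEquivalenceRelation s t]

/-- The subobject is stable under the relation. -/
theorem IsSub.stable (h : IsSub s t Ti c ui ζ) [Mono ζ.left]
    (hcov : Presieve.ofArrows (fun i => (Ti i).left) (fun i => (c i).left) ∈
      Scheme.fpqcPrecoverage T.left) {T' : Over S} (r : T' ⟶ R ⊗ T) :
    (∃ z : T' ⟶ Z, z ≫ ζ = r ≫ (s ▷ T)) ↔ (∃ z : T' ⟶ Z, z ≫ ζ = r ≫ (t ▷ T)) := by
  rw [h.factors_iff hcov, h.factors_iff hcov]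
  have hrel : Rel s t (r ≫ fst R T ≫ s) (r ≫ fst R T ≫ t) :=
    ⟨r ≫ fst R T, by simp, by simp⟩
  constructor
  · intro H i V G τ hτ
    have h1 : Rel s t (τ ≫ ui i) (G ≫ r ≫ fst R T ≫ s) := by
      simpa using H i G τ (by simpa using hτ)
    simpa using h1.trans (hrel.precomp G)
  · intro H i V G τ hτ
    have h1 : Rel s t (τ ≫ ui i) (G ≫ r ≫ fst R T ≫ t) := by
      simpa using H i G τ (by simpa using hτ)
    simpa using h1.trans (hrel.precomp G).symm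

/-- Two points of the subobject over the same point of `T` are related. -/
theorem IsSub.rel_of_snd_eq (h : IsSub s t Ti c ui ζ)
    (hcov : Presieve.ofArrows (fun i => (Ti i).left) (fun i => (c i).left) ∈
      Scheme.fpqcPrecoverage T.left) {W : Over S} (z₁ z₂ : W ⟶ Z)
    (hz : z₁ ≫ ζ ≫ snd U T = z₂ ≫ ζ ≫ snd U T) :
    Rel s t (z₁ ≫ ζ ≫ fst U T) (z₂ ≫ ζ ≫ fst U T) := by
  apply rel_of_fpqc _ _ (fun i => pullback (z₁ ≫ ζ ≫ snd U T) (c i))
    (fun i => pullback.fst _ _)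
    (pullback_family_mem Scheme.fpqcPrecoverage (z₁ ≫ ζ ≫ snd U T) Ti c hcov)
  intro i
  have h1 := h.rel_of_factors z₁ i (pullback.fst (z₁ ≫ ζ ≫ snd U T) (c i))
    (pullback.snd (z₁ ≫ ζ ≫ snd U T) (c i)) pullback.condition.symm
  have h2 := h.rel_of_factors z₂ i (pullback.fst (z₁ ≫ ζ ≫ snd U T) (c i))
    (pullback.snd (z₁ ≫ ζ ≫ snd U T) (c i)) (by rw [← hz]; exact pullback.condition.symm)
  exact h1.symm.trans h2

end sub

section exist

variable {R U : Over S} (s t : R ⟶ U) [IsEquivalenceRelation s t] {T : Over S} {ι : Type u}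
  (Ti : ι → Over S) (c : ∀ i, Ti i ⟶ T) (ui : ∀ i, Ti i ⟶ U)

/-- **Existence of the subobject.** -/
theorem exists_isSub (P : MorphismProperty Scheme.{u}) [P.IsStableUnderBaseChange]
    [P.IsLocalAtTarget Scheme.fpqcPrecoverage]
    (hPmono : ∀ {X Y : Scheme.{u}} (f : X ⟶ Y), P f → Mono f)
    (heff : ∀ {S₀ : Scheme.{u}} {ι : Type u} {X : ι → Scheme.{u}} (f : ∀ i, X i ⟶ S₀),
      Presieve.ofArrows X f ∈ Scheme.fpqcPrecoverage S₀ → ∀ D : SchDDFam f,
      (∀ i, P (D.obj i).hom) → D.IsEffective)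
    (hP : P (lift t s).left)
    (hcov : Presieve.ofArrows (fun i => (Ti i).left) (fun i => (c i).left) ∈
      Scheme.fpqcPrecoverage T.left)
    (hcompat : Compat s t Ti c ui) :
    ∃ (Z : Over S) (ζ : Z ⟶ U ⊗ T), P ζ.left ∧ IsSub s t Ti c ui ζ ∧
      ∀ (Q : MorphismProperty Scheme.{u}) [Q.IsStableUnderBaseChange]
        [Q.IsLocalAtTarget Scheme.fpqcPrecoverage], Q s.left → Q (ζ ≫ snd U T).left := by
  have hcovY : Presieve.ofArrows (fun i => (U ⊗ Ti i).left) (fun i => (U ◁ c i).left) ∈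
      Scheme.fpqcPrecoverage (U ⊗ T).left :=
    Precoverage.mem_coverings_of_isPullback _ hcov (snd U T).left _
      (fun i => (snd U (Ti i)).left)
      (fun i => (isPullback_whiskerLeft U (c i)).map (Over.forget S))
  have hm : ∀ i, P (pullback.fst (U ◁ ui i) (lift t s)).left := fun i =>
    P.of_isPullback ((IsPullback.of_hasPullback (U ◁ ui i) (lift t s)).flip.map (Over.forget S)) hP
  have H : ∀ ⦃i j : ι⦄ ⦃W : Over S⦄ (x₀ : W ⟶ U ⊗ Ti i) (x₁ : W ⟶ U ⊗ Ti j),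
      x₀ ≫ (U ◁ c i) = x₁ ≫ (U ◁ c j) →
      (∃ v : W ⟶ pullback (U ◁ ui i) (lift t s), v ≫ pullback.fst _ _ = x₀) →
      ∃ v : W ⟶ pullback (U ◁ ui j) (lift t s), v ≫ pullback.fst _ _ = x₁ := by
    intro i j W x₀ x₁ hx h0
    rw [lifts_iff_rel] at h0 ⊢
    have hf : x₀ ≫ fst _ _ = x₁ ≫ fst _ _ := by
      have := congrArg (fun k => k ≫ fst U T) hx
      simpa using this
    have hs : (x₀ ≫ snd _ _) ≫ c i = (x₁ ≫ snd _ _) ≫ c j := by
      have := congrArg (fun k => k ≫ snd U T) hx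
      simpa using this
    have h1 := hcompat _ _ hs
    exact (h1.symm.congr (Category.assoc _ _ _) (Category.assoc _ _ _)).trans (h0.congr rfl hf)
  obtain ⟨Z, ζ, a, hζ, sq⟩ := exists_sub_over P hPmono heff (fun i => U ⊗ Ti i)
    (fun i => U ◁ c i) hcovY (fun i => pullback (U ◁ ui i) (lift t s))
    (fun i => pullback.fst _ _) hm H
  refine ⟨Z, ζ, hζ, ?_, ?_⟩
  · intro i W X
    rw [← lifts_iff_rel s t Ti ui i X]
    constructor
    · rintro ⟨z, hz⟩
      exact ⟨(sq i).lift z X hz, (sq i).lift_snd _ _ _⟩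
    · rintro ⟨v, hv⟩
      exact ⟨v ≫ a i, by rw [Category.assoc, (sq i).w, ← Category.assoc, hv]⟩
  · intro Q _ _ hQ
    have sqP : ∀ i, IsPullback (pullback.snd (U ◁ ui i) (lift t s))
        (pullback.fst (U ◁ ui i) (lift t s) ≫ snd U (Ti i)) s (ui i) := by
      intro i
      have := (IsPullback.of_hasPullback (U ◁ ui i) (lift t s)).flip.paste_vert
        (isPullback_whiskerLeft U (ui i))
      rwa [lift_snd] at this
    have hQi : ∀ i, Q (pullback.fst (U ◁ ui i) (lift t s) ≫ snd U (Ti i)).left := fun i =>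
      Q.of_isPullback ((sqP i).map (Over.forget S)) hQ
    have big : ∀ i, IsPullback (a i) (pullback.fst (U ◁ ui i) (lift t s) ≫ snd U (Ti i))
        (ζ ≫ snd U T) (c i) := fun i =>
      (sq i).paste_vert (isPullback_whiskerLeft U (c i))
    refine MorphismProperty.IsLocalAtTarget.of_forall_pullbackSnd (P := Q) hcov ?_
    rintro V g _ ⟨i⟩
    have bigS : IsPullback (a i).left
        (pullback.fst (U ◁ ui i) (lift t s) ≫ snd U (Ti i)).left (ζ ≫ snd U T).left (c i).left :=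
      (big i).map (Over.forget S)
    rw [← Q.cancel_left_of_respectsIso bigS.isoPullback.hom, bigS.isoPullback_hom_snd]
    exact hQi i

end exist

end Groth.Agent.H3.QuotFpqc
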