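import Mathlib
import Groth.Agent.Lib.Helper3.QuotFpqc.Sub
import Groth.Agent.Lib.Helper3.QuotFpqc.ShApi
import Groth.Agent.Lib.Helper3.DescSh.ClosedImm
import Groth.Agent.Lib.Helper3.FpqcLocal2
import Groth.Agent.Lib.Helper3.FpqcLocal3
import Groth.Agent.Lib.Helper2.SigSheaf

/-!
# The fppf quotient of an equivalence relation with closed graph is an fpqc sheaf (helper3)
-/

set_option autoImplicit false

universe w v u

open CategoryTheory CategoryTheory.Limits AlgebraicGeometry Opposite MonoidalCategory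
  CartesianMonoidalCategory

namespace Groth.Agent.H3.QuotFpqc

section sig

open Groth.Agent.H2.SigSheaf

variable {C : Type u} [Category.{v} C] {S : C} (P : (Over S)ᵒᵖ ⥤ Type w)

/-- The sheaf condition of `sig P` for a single morphism follows from the sheaf conditions of `P`
for its lifts to `Over S`. -/
theorem isSheafFor_sig_singleton {T' T : C} (g : T' ⟶ T)
    (hS : Presieve.IsSheafFor (yoneda.obj S) (Presieve.singleton g))
    (h : ∀ a : T ⟶ S, Presieve.IsSheafFor P
      (Presieve.singleton (Over.homMk g rfl : Over.mk (g ≫ a) ⟶ Over.mk a))) :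
    Presieve.IsSheafFor (sig P) (Presieve.singleton g) := by
  rw [Presieve.isSheafFor_singleton] at hS ⊢
  rintro ⟨a', y'⟩ hp
  obtain ⟨a, ha, hau⟩ := hS a' (fun p₁ p₂ hpp => congrArg Sigma.fst (hp p₁ p₂ hpp))
  have ha' : g ≫ a = a' := ha
  subst ha'
  have hsh := (Presieve.isSheafFor_singleton).1 (h a)
  have hcompat : ∀ {W : Over S} (k₁ k₂ : W ⟶ Over.mk (g ≫ a)),
      k₁ ≫ (Over.homMk g rfl : Over.mk (g ≫ a) ⟶ Over.mk a) =
        k₂ ≫ (Over.homMk g rfl : Over.mk (g ≫ a) ⟶ Over.mk a) →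
      P.map k₁.op y' = P.map k₂.op y' := by
    intro W k₁ k₂ hk
    have hk' : k₁.left ≫ g = k₂.left ≫ g := congrArg (fun t => t.left) hk
    obtain ⟨e, e'⟩ := (sigMap_eq_iff P k₁.left k₂.left ⟨g ≫ a, y'⟩ ⟨g ≫ a, y'⟩).1
      (hp k₁.left k₂.left hk')
    have w0 : 𝟙 W.left ≫ (Over.mk (k₂.left ≫ g ≫ a)).hom = W.hom :=
      (Category.id_comp _).trans (Over.w k₂)
    calc P.map k₁.op y' = res P k₁.left (Over.w k₁) y' := map_eq_res P k₁ _
      _ = res P (X := W) (Y := Over.mk (k₂.left ≫ g ≫ a)) (𝟙 _) w0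
            (res P (X := Over.mk (k₂.left ≫ g ≫ a)) (Y := Over.mk (g ≫ a)) k₁.left e y') :=
          (res_res' P (X := W) (Y := Over.mk (k₂.left ≫ g ≫ a)) (Z := Over.mk (g ≫ a)) (𝟙 _)
            k₁.left w0 e y' (Over.w k₁) (Category.id_comp _)).symm
      _ = res P (X := W) (Y := Over.mk (k₂.left ≫ g ≫ a)) (𝟙 _) w0
            (res P (X := Over.mk (k₂.left ≫ g ≫ a)) (Y := Over.mk (g ≫ a)) k₂.left rfl y') :=
          congrArg _ e'
      _ = res P k₂.left (Over.w k₂) y' := res_res' P _ _ _ _ _ _ (Category.id_comp _)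
      _ = P.map k₂.op y' := (map_eq_res P k₂ _).symm
  obtain ⟨y, hy, hyu⟩ := hsh y' hcompat
  refine ⟨⟨a, y⟩, ?_, ?_⟩
  · show sigMap P g ⟨a, y⟩ = ⟨g ≫ a, y'⟩
    exact congrArg (Sigma.mk (g ≫ a)) hy
  · rintro ⟨b, y₁⟩ hb
    have hb' : sigMap P g ⟨b, y₁⟩ = ⟨g ≫ a, y'⟩ := hb
    have hba : b = a := hau b (congrArg Sigma.fst hb')
    subst hba
    have h2 : res P (X := Over.mk (g ≫ b)) (Y := Over.mk b) g rfl y₁ = y' :=
      eq_of_heq (Sigma.mk.inj hb').2
    have h3 : y₁ = y := hyu y₁ h2
    rw [h3]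

end sig

section main

open Groth.Agent.H3.QuotShEff

variable {K : Precoverage Scheme.{u}} {S : Scheme.{u}} [(QuotSh.J K S).Subcanonical]
  [K.IsStableUnderComposition] [K.IsStableUnderBaseChange] [K.HasPullbacks] [K.HasIsos]
  [Precoverage.Small.{u} K]
  {R U : Over S} (s t : R ⟶ U) [IsEquivalenceRelation s t]

/-- The quotient sheaf is separated for fpqc coverings. -/
theorem hom_ext_of_fpqc {T : Over S} {ι : Type*} (Ti : ι → Over S) (c : ∀ i, Ti i ⟶ T)
    (hcov : Presieve.ofArrows (fun i => (Ti i).left) (fun i => (c i).left) ∈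
      Scheme.fpqcPrecoverage T.left)
    (x y : (yonK K S).obj T ⟶ QuotSh.quot K s t)
    (h : ∀ i, (yonK K S).map (c i) ≫ x = (yonK K S).map (c i) ≫ y) : x = y := by
  have hxy : ∀ (k : ι) {W : Over S} (g' : W ⟶ Ti k),
      (yonK K S).map (g' ≫ c k) ≫ x = (yonK K S).map (g' ≫ c k) ≫ y := by
    intro k W g'
    rw [Functor.map_comp, Category.assoc, Category.assoc, h k]
  obtain ⟨ι₁, T₁, d, x₁, hd, hx₁⟩ := exists_local_lifts (q K s t) x
  apply hom_ext_of_cover T₁ d hd
  intro i
  obtain ⟨ι₂, T₂, e, y₂, he, hy₂⟩ := exists_local_lifts (q K s t) ((yonK K S).map (d i) ≫ y)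
  apply hom_ext_of_cover T₂ e he
  intro j
  obtain ⟨u₁, hu₁⟩ := (yonK K S).map_surjective (x₁ i)
  obtain ⟨v₂, hv₂⟩ := (yonK K S).map_surjective (y₂ j)
  have hrel : Rel s t (e j ≫ u₁) v₂ := by
    apply rel_of_fpqc _ _ (fun k => pullback (e j ≫ d i) (c k)) (fun k => pullback.fst _ _)
      (pullback_family_mem Scheme.fpqcPrecoverage (e j ≫ d i) Ti c hcov)
    intro k
    rw [← map_q_eq_iff (K := K)]
    have hc := pullback.condition (f := e j ≫ d i) (g := c k)
    calc (yonK K S).map (pullback.fst (e j ≫ d i) (c k) ≫ e j ≫ u₁) ≫ q K s t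
        = (yonK K S).map (pullback.fst (e j ≫ d i) (c k) ≫ e j) ≫
            ((yonK K S).map (d i) ≫ x) := by
          simp only [Functor.map_comp, Category.assoc, hx₁ i, hu₁]
      _ = (yonK K S).map (pullback.snd (e j ≫ d i) (c k) ≫ c k) ≫ x := by
          rw [← Category.assoc, ← Functor.map_comp, Category.assoc, hc]
      _ = (yonK K S).map (pullback.snd (e j ≫ d i) (c k) ≫ c k) ≫ y := hxy k _
      _ = (yonK K S).map (pullback.fst (e j ≫ d i) (c k)) ≫
            ((yonK K S).map (e j) ≫ (yonK K S).map (d i) ≫ y) := by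
          rw [← hc]
          simp only [Functor.map_comp, Category.assoc]
      _ = (yonK K S).map (pullback.fst (e j ≫ d i) (c k) ≫ v₂) ≫ q K s t := by
          rw [hy₂ j, ← hv₂, ← Category.assoc, ← Functor.map_comp]
  rw [hx₁ i, hy₂ j, ← hu₁, ← hv₂, ← Category.assoc, ← Functor.map_comp]
  exact (map_q_eq_iff s t _ _).2 hrel

omit [K.IsStableUnderComposition] [K.IsStableUnderBaseChange] [K.HasPullbacks] [K.HasIsos]
  [Precoverage.Small.{u} K] in
/-- **Gluing.** Local representatives, on an fpqc covering, of a section of the quotient sheaf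
glue to a section, as soon as the graph of the relation belongs to a class of monomorphisms with
effective fpqc descent and the descended scheme is a covering for `K`. -/
theorem exists_section_of_fpqc (Q : MorphismProperty Scheme.{u}) [Q.IsStableUnderBaseChange]
    [Q.IsLocalAtTarget Scheme.fpqcPrecoverage]
    (hQK : ∀ {X Y : Scheme.{u}} (f : X ⟶ Y), Flat f → Surjective f → Q f →
      Presieve.singleton f ∈ K Y)
    (P : MorphismProperty Scheme.{u}) [P.IsStableUnderBaseChange]
    [P.IsLocalAtTarget Scheme.fpqcPrecoverage]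
    (hPmono : ∀ {X Y : Scheme.{u}} (f : X ⟶ Y), P f → Mono f)
    (heff : ∀ {S₀ : Scheme.{u}} {ι : Type u} {X : ι → Scheme.{u}} (f : ∀ i, X i ⟶ S₀),
      Presieve.ofArrows X f ∈ Scheme.fpqcPrecoverage S₀ → ∀ D : Desc.SchDDFam f,
      (∀ i, P (D.obj i).hom) → D.IsEffective)
    (hP : P (lift t s).left) [Flat s.left] [Surjective s.left] (hQs : Q s.left)
    {T : Over S} {ι : Type u} (Ti : ι → Over S) (c : ∀ i, Ti i ⟶ T) (ui : ∀ i, Ti i ⟶ U)
    (hcov : Presieve.ofArrows (fun i => (Ti i).left) (fun i => (c i).left) ∈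
      Scheme.fpqcPrecoverage T.left)
    (hcompat : Compat s t Ti c ui) :
    ∃ x : (yonK K S).obj T ⟶ QuotSh.quot K s t,
      ∀ i, (yonK K S).map (c i) ≫ x = (yonK K S).map (ui i) ≫ q K s t := by
  obtain ⟨Z, ζ, hζ, hsub, hQZ⟩ := exists_isSub s t Ti c ui P hPmono heff hP hcov hcompat
  have hmono : Mono ζ.left := hPmono _ hζ
  have hd1 : Flat (ζ ≫ snd U T).left := hQZ @Flat inferInstance
  have hd2 : Surjective (ζ ≫ snd U T).left := hQZ @Surjective inferInstance
  have hd3 : Q (ζ ≫ snd U T).left := hQZ Q hQs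
  have hdK : Presieve.ofArrows (fun _ : PUnit.{u + 1} => Z.left)
      (fun _ => (ζ ≫ snd U T).left) ∈ K T.left := by
    rw [Presieve.ofArrows_pUnit]
    exact hQK _ hd1 hd2 hd3
  obtain ⟨x, hx⟩ := exists_desc_of_cover (fun _ : PUnit.{u + 1} => Z) (fun _ => ζ ≫ snd U T) hdK
    (fun _ => (yonK K S).map (ζ ≫ fst U T) ≫ q K s t) (by
      intro _ _ W k₁ k₂ hk
      rw [← Category.assoc, ← Category.assoc, ← Functor.map_comp, ← Functor.map_comp,
        map_q_eq_iff]
      exact hsub.rel_of_snd_eq hcov k₁ k₂ hk)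
  refine ⟨x, fun i => ?_⟩
  have sqS : IsPullback (pullback.fst (ζ ≫ snd U T) (c i)).left
      (pullback.snd (ζ ≫ snd U T) (c i)).left (ζ ≫ snd U T).left (c i).left :=
    (IsPullback.of_hasPullback (ζ ≫ snd U T) (c i)).map (Over.forget S)
  have hbK : Presieve.ofArrows (fun _ : PUnit.{u + 1} => (pullback (ζ ≫ snd U T) (c i)).left)
      (fun _ => (pullback.snd (ζ ≫ snd U T) (c i)).left) ∈ K (Ti i).left := by
    rw [Presieve.ofArrows_pUnit]
    exact hQK _ (MorphismProperty.of_isPullback (P := @Flat) sqS hd1)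
      (MorphismProperty.of_isPullback (P := @Surjective) sqS hd2) (Q.of_isPullback sqS hd3)
  apply hom_ext_of_cover (fun _ : PUnit.{u + 1} => pullback (ζ ≫ snd U T) (c i))
    (fun _ => pullback.snd (ζ ≫ snd U T) (c i)) hbK
  intro _
  rw [← Category.assoc, ← Functor.map_comp, ← pullback.condition, Functor.map_comp,
    Category.assoc, hx PUnit.unit, ← Category.assoc, ← Category.assoc, ← Functor.map_comp,
    ← Functor.map_comp, map_q_eq_iff]
  have h1 := hsub.rel_of_factors (pullback.fst (ζ ≫ snd U T) (c i)) i (𝟙 _)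
    (pullback.snd (ζ ≫ snd U T) (c i))
    (by rw [Category.id_comp]; exact pullback.condition.symm)
  exact h1.symm.congr (by rw [Category.id_comp]) rfl

end main

section fppf

open Groth.Agent.H3.QuotShEff

variable {S : Scheme.{u}} {R U : Over S} (s t : R ⟶ U) [IsEquivalenceRelation s t]
  [Flat s.left] [Surjective s.left] [LocallyOfFinitePresentation s.left]

instance : Precoverage.Small.{u} Scheme.fppfPrecoverage.{u} :=
  inferInstanceAs (Precoverage.Small.{u}
    (Scheme.precoverage (@Flat ⊓ @LocallyOfFinitePresentation)))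

/-- Sections over `T` as morphisms from the representable sheaf. -/
noncomputable abbrev yE (G : QuotSh.Sh Scheme.fppfPrecoverage S) (T : Over S) :
    ((yonK Scheme.fppfPrecoverage S).obj T ⟶ G) ≃ G.obj.obj (op T) :=
  (QuotSh.J Scheme.fppfPrecoverage S).uliftYonedaEquiv

/-- The sheaf condition of the fppf quotient for a single fpqc morphism. -/
theorem isSheafFor_singleton (hc : IsClosedImmersion (lift t s).left) {T T' : Over S}
    (c : T' ⟶ T) (hcov : Presieve.singleton c.left ∈ Scheme.fpqcPrecoverage T.left) :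
    Presieve.IsSheafFor (QuotSh.quot Scheme.fppfPrecoverage s t).obj (Presieve.singleton c) := by
  have hcov' : Presieve.ofArrows (fun _ : PUnit.{u + 1} => T'.left) (fun _ => c.left) ∈
      Scheme.fpqcPrecoverage T.left := by
    rw [Presieve.ofArrows_pUnit]
    exact hcov
  rw [Presieve.isSheafFor_singleton]
  intro x₀ hx₀
  set x' := (yE (QuotSh.quot Scheme.fppfPrecoverage s t) T').symm x₀ with hx'
  have hxs : x₀ = yE (QuotSh.quot Scheme.fppfPrecoverage s t) T' x' := by
    rw [hx', Equiv.apply_symm_apply]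
  have hcomp : ∀ {W : Over S} (g₁ g₂ : W ⟶ T'), g₁ ≫ c = g₂ ≫ c →
      (yonK Scheme.fppfPrecoverage S).map g₁ ≫ x' = (yonK Scheme.fppfPrecoverage S).map g₂ ≫ x' := by
    intro W g₁ g₂ hg
    apply (yE (QuotSh.quot Scheme.fppfPrecoverage s t) W).injective
    rw [← GrothendieckTopology.uliftYonedaEquiv_naturality,
      ← GrothendieckTopology.uliftYonedaEquiv_naturality, ← hxs]
    exact hx₀ g₁ g₂ hg
  obtain ⟨ι, Ti, c₁, xi, hc₁, hxi⟩ := exists_local_lifts (q Scheme.fppfPrecoverage s t) x'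
  choose ui hui using fun i => (yonK Scheme.fppfPrecoverage S).map_surjective (xi i)
  have hcomp_cov : Presieve.ofArrows (fun p : Σ _ : PUnit.{u + 1}, ι => (Ti p.2).left)
      (fun p => (c₁ p.2 ≫ c).left) ∈ Scheme.fpqcPrecoverage T.left :=
    Precoverage.comp_mem_coverings (fun _ : PUnit.{u + 1} => c.left) hcov'
      (fun _ i => (c₁ i).left) (fun _ => Scheme.fppfPrecoverage_le_fpqcPrecoverage _ hc₁)
  have hcompat : Compat s t (fun p : Σ _ : PUnit.{u + 1}, ι => Ti p.2) (fun p => c₁ p.2 ≫ c)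
      (fun p => ui p.2) := by
    intro p p' W k₁ k₂ hk
    rw [← map_q_eq_iff (K := Scheme.fppfPrecoverage), Functor.map_comp, Functor.map_comp, Category.assoc,
      Category.assoc, hui, hui, ← hxi, ← hxi, ← Category.assoc, ← Category.assoc,
      ← Functor.map_comp, ← Functor.map_comp]
    exact hcomp _ _ (by simpa using hk)
  obtain ⟨xT, hxT⟩ := exists_section_of_fpqc (K := Scheme.fppfPrecoverage) s t @LocallyOfFinitePresentation
    (fun f h1 h2 h3 => by
      have := h1
      have := h2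
      have := h3
      exact f.singleton_mem_fppfPrecoverage)
    @IsClosedImmersion (fun f hf => by have := hf; infer_instance)
    (fun f hf D hD => Groth.Agent.H3.DescSh.isEffective_of_isClosedImmersion f hf D hD) hc
    inferInstance (fun p : Σ _ : PUnit.{u + 1}, ι => Ti p.2) (fun p => c₁ p.2 ≫ c)
    (fun p => ui p.2) hcomp_cov hcompat
  have hglue : (yonK Scheme.fppfPrecoverage S).map c ≫ xT = x' := by
    apply hom_ext_of_cover Ti c₁ hc₁
    intro i
    rw [← Category.assoc, ← Functor.map_comp, hxT ⟨PUnit.unit, i⟩, hxi i, hui i]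
  refine ⟨yE (QuotSh.quot Scheme.fppfPrecoverage s t) T xT, ?_, ?_⟩
  · show (QuotSh.quot Scheme.fppfPrecoverage s t).obj.map c.op
      (yE (QuotSh.quot Scheme.fppfPrecoverage s t) T xT) = x₀
    rw [GrothendieckTopology.uliftYonedaEquiv_naturality, hglue, hxs]
  · intro y hy
    have hy' : (QuotSh.quot Scheme.fppfPrecoverage s t).obj.map c.op y = x₀ := hy
    have : (yE (QuotSh.quot Scheme.fppfPrecoverage s t) T).symm y = xT := by
      apply hom_ext_of_fpqc s t (fun _ : PUnit.{u + 1} => T') (fun _ => c) hcov'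
      intro _
      rw [hglue]
      apply (yE (QuotSh.quot Scheme.fppfPrecoverage s t) T').injective
      rw [← GrothendieckTopology.uliftYonedaEquiv_naturality, Equiv.apply_symm_apply, hy', hxs]
    rw [← this, Equiv.apply_symm_apply]

/-- **S6043.** -/
theorem isSheaf_fpqc_quot (hc : IsClosedImmersion (lift t s).left) :
    Presheaf.IsSheaf (QuotSh.J Scheme.fpqcPrecoverage S) (QuotSh.quot Scheme.fppfPrecoverage s t).obj := by
  have hQ : Presieve.IsSheaf (QuotSh.J Scheme.fppfPrecoverage S) (QuotSh.quot Scheme.fppfPrecoverage s t).obj :=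
    (isSheaf_iff_isSheaf_of_type _ _).1 (QuotSh.quot Scheme.fppfPrecoverage s t).property
  have hz : Scheme.zariskiTopology.{u}.over S ≤ QuotSh.J Scheme.fppfPrecoverage S := by
    intro X T hT
    rw [GrothendieckTopology.mem_over_iff] at hT ⊢
    exact Precoverage.toGrothendieck_mono Scheme.zariskiPrecoverage_le_fppfPrecoverage _ hT
  rw [isSheaf_iff_isSheaf_of_type]
  show Presieve.IsSheaf (Scheme.fpqcTopology.{u}.over S) (QuotSh.quot Scheme.fppfPrecoverage s t).obj
  apply Groth.Agent.H2.SigSheaf.isSheaf_over_of_isSheaf_sig _ Scheme.fpqcTopology.{u}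
  · exact (GrothendieckTopology.Subcanonical.isSheaf_of_isRepresentable
      (J := Scheme.fpqcTopology.{u}) (yoneda.obj S)).isSeparated
  · rw [Scheme.fpqcTopology_eq_propQCTopology, isSheaf_type_propQCTopology_iff]
    refine ⟨?_, ?_⟩
    · apply Groth.Agent.H2.SigSheaf.isSheaf_sig_of_isSheaf_over _ Scheme.zariskiTopology.{u}
      · exact GrothendieckTopology.Subcanonical.isSheaf_of_isRepresentable
          (J := Scheme.zariskiTopology.{u}) (yoneda.obj S)
      · exact Presieve.isSheaf_of_le _ hz hQ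
    · intro A B f hf hs
      have : Flat (Spec.map f) := hf
      have : Surjective (Spec.map f) := hs
      have hmem : Presieve.singleton (Spec.map f) ∈ Scheme.fpqcPrecoverage (Spec A) :=
        (Spec.map f).singleton_mem_fpqcPrecoverage
      apply isSheafFor_sig_singleton
      · refine (Presieve.isSheafFor_iff_generate _).2 ?_
        exact (GrothendieckTopology.Subcanonical.isSheaf_of_isRepresentable
          (J := Scheme.fpqcTopology.{u}) (yoneda.obj S)) _
          (Precoverage.generate_mem_toGrothendieck hmem)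
      · intro a
        exact isSheafFor_singleton s t hc _ hmem

end fppf

end Groth.Agent.H3.QuotFpqc
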