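import Mathlib
import Groth.Agent.Lib.Helper3.QuotFpqc.Sub
import Groth.Agent.Lib.Helper3.QuotFpqc.ShApi
import Groth.Agent.Lib.Helper3.FpqcLocal2
import Groth.Agent.Lib.Helper3.FpqcLocal3

/-!
# Sections of the fpqc quotient sheaf as subschemes of `U ×_S T` (helper3)
-/

set_option autoImplicit false

universe u

open CategoryTheory CategoryTheory.Limits AlgebraicGeometry Opposite MonoidalCategory
  CartesianMonoidalCategory

namespace Groth.Agent.H3.QuotFpqc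

open Groth.Agent.H3.QuotShEff

open Groth.Agent.S7490 (F F_map)

instance subcanonical_fpqc {S : Scheme.{u}} :
    (QuotSh.J Scheme.fpqcPrecoverage S).Subcanonical :=
  GrothendieckTopology.subcanonical_over Scheme.fpqcTopology S

instance small_fpqc : Precoverage.Small.{u} Scheme.fpqcPrecoverage.{u} :=
  inferInstanceAs (Precoverage.Small.{u} (Scheme.propQCPrecoverage @Flat))

local notation "Kq" => Scheme.fpqcPrecoverage

variable {S : Scheme.{u}} {R U : Over S} (s t : R ⟶ U) [IsEquivalenceRelation s t] {T : Over S}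

omit [IsEquivalenceRelation s t] in
/-- Translation between the sheafified representables and the Yoneda sheaves. -/
lemma rep_eq_iff {Z : Over S} (a : Z ⟶ U) (b : Z ⟶ T)
    (σ : QuotSh.rep Kq T ⟶ QuotSh.quot Kq s t) :
    (F Kq S).map a ≫ QuotSh.quotπ Kq s t = (F Kq S).map b ≫ σ ↔
      (yonK Kq S).map a ≫ q Kq s t = (yonK Kq S).map b ≫ ((FIso Kq S).hom.app T ≫ σ) := by
  have hnat : ∀ {V W : Over S} (g : V ⟶ W), (yonK Kq S).map g ≫ (FIso Kq S).hom.app W =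
      (FIso Kq S).hom.app V ≫ (F Kq S).map g := fun g => (FIso Kq S).hom.naturality g
  unfold q
  rw [← Category.assoc, ← Category.assoc, hnat, hnat, Category.assoc, Category.assoc, cancel_epi]

/-- A point of `U ×_S T` whose components agree in the quotient factors through any stable
subobject which is an fpqc covering of `T` and induces the section. -/
theorem exists_factor {Z' : Over S} (i' : Z' ⟶ U ⊗ T) [Mono i'.left]
    (hst : ∀ (T' : Over S) (r : T' ⟶ R ⊗ T),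
      (∃ z : T' ⟶ Z', z ≫ i' = r ≫ (s ▷ T)) ↔ (∃ z : T' ⟶ Z', z ≫ i' = r ≫ (t ▷ T)))
    (h1 : Flat (i' ≫ snd U T).left) (h2 : Surjective (i' ≫ snd U T).left)
    (h3 : QuasiCompact (i' ≫ snd U T).left)
    (σ' : (yonK Kq S).obj T ⟶ QuotSh.quot Kq s t)
    (h4 : (yonK Kq S).map (i' ≫ fst U T) ≫ q Kq s t = (yonK Kq S).map (i' ≫ snd U T) ≫ σ')
    {W : Over S} (y : W ⟶ U ⊗ T)
    (hy : (yonK Kq S).map (y ≫ fst U T) ≫ q Kq s t = (yonK Kq S).map (y ≫ snd U T) ≫ σ') :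
    ∃ z : W ⟶ Z', z ≫ i' = y := by
  have hGz : pullback.fst (y ≫ snd U T) (i' ≫ snd U T) ≫ y ≫ snd U T =
      pullback.snd (y ≫ snd U T) (i' ≫ snd U T) ≫ i' ≫ snd U T := pullback.condition
  have sqS : IsPullback (pullback.fst (y ≫ snd U T) (i' ≫ snd U T)).left
      (pullback.snd (y ≫ snd U T) (i' ≫ snd U T)).left (y ≫ snd U T).left
      (i' ≫ snd U T).left :=
    (IsPullback.of_hasPullback (y ≫ snd U T) (i' ≫ snd U T)).map (Over.forget S)
  have hG1 : Flat (pullback.fst (y ≫ snd U T) (i' ≫ snd U T)).left :=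
    MorphismProperty.of_isPullback (P := @Flat) sqS.flip h1
  have hG2 : Surjective (pullback.fst (y ≫ snd U T) (i' ≫ snd U T)).left :=
    MorphismProperty.of_isPullback (P := @Surjective) sqS.flip h2
  have hG3 : QuasiCompact (pullback.fst (y ≫ snd U T) (i' ≫ snd U T)).left :=
    MorphismProperty.of_isPullback (P := @QuasiCompact) sqS.flip h3
  have hcovG : Presieve.ofArrows
      (fun _ : PUnit.{u + 1} => (pullback (y ≫ snd U T) (i' ≫ snd U T)).left)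
      (fun _ => (pullback.fst (y ≫ snd U T) (i' ≫ snd U T)).left) ∈
      Scheme.fpqcPrecoverage W.left := by
    rw [Presieve.ofArrows_pUnit]
    exact (pullback.fst (y ≫ snd U T) (i' ≫ snd U T)).left.singleton_mem_fpqcPrecoverage
  apply exists_lift_over i' y (fun _ : PUnit.{u + 1} => pullback (y ≫ snd U T) (i' ≫ snd U T))
    (fun _ => pullback.fst (y ≫ snd U T) (i' ≫ snd U T)) hcovG
  intro _
  have hrel : Rel s t (pullback.snd (y ≫ snd U T) (i' ≫ snd U T) ≫ i' ≫ fst U T)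
      (pullback.fst (y ≫ snd U T) (i' ≫ snd U T) ≫ y ≫ fst U T) := by
    rw [← map_q_eq_iff (K := Kq)]
    calc (yonK Kq S).map (pullback.snd (y ≫ snd U T) (i' ≫ snd U T) ≫ i' ≫ fst U T) ≫ q Kq s t
        = (yonK Kq S).map (pullback.snd (y ≫ snd U T) (i' ≫ snd U T)) ≫
            ((yonK Kq S).map (i' ≫ fst U T) ≫ q Kq s t) := by
          rw [Functor.map_comp, Category.assoc]
      _ = (yonK Kq S).map (pullback.fst (y ≫ snd U T) (i' ≫ snd U T) ≫ y ≫ snd U T) ≫ σ' := by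
          rw [h4, ← Category.assoc, ← Functor.map_comp, ← hGz]
      _ = (yonK Kq S).map (pullback.fst (y ≫ snd U T) (i' ≫ snd U T)) ≫
            ((yonK Kq S).map (y ≫ fst U T) ≫ q Kq s t) := by
          rw [hy, Functor.map_comp, Category.assoc]
      _ = (yonK Kq S).map (pullback.fst (y ≫ snd U T) (i' ≫ snd U T) ≫ y ≫ fst U T) ≫
            q Kq s t := by
          rw [← Category.assoc, ← Functor.map_comp]
  obtain ⟨ρ, hρ1, hρ2⟩ := hrel
  have hz' : ∃ z : pullback (y ≫ snd U T) (i' ≫ snd U T) ⟶ Z',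
      z ≫ i' = lift ρ (pullback.fst (y ≫ snd U T) (i' ≫ snd U T) ≫ y ≫ snd U T) ≫ (s ▷ T) := by
    refine ⟨pullback.snd (y ≫ snd U T) (i' ≫ snd U T), ?_⟩
    rw [lift_whiskerRight, hρ1, hGz]
    apply CartesianMonoidalCategory.hom_ext <;> simp
  obtain ⟨z, hz⟩ := (hst _ _).1 hz'
  refine ⟨z, hz.trans ?_⟩
  rw [lift_whiskerRight, hρ2]
  apply CartesianMonoidalCategory.hom_ext <;> simp

variable [Flat s.left] [Surjective s.left] [QuasiCompact s.left]

/-- **Existence of the subscheme attached to a section of the fpqc quotient.** -/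
theorem exists_sub_of_section (P : MorphismProperty Scheme.{u}) [P.IsStableUnderBaseChange]
    [P.IsLocalAtTarget Scheme.fpqcPrecoverage]
    (hPmono : ∀ {X Y : Scheme.{u}} (f : X ⟶ Y), P f → Mono f)
    (heff : ∀ {S₀ : Scheme.{u}} {ι : Type u} {X : ι → Scheme.{u}} (f : ∀ i, X i ⟶ S₀),
      Presieve.ofArrows X f ∈ Scheme.fpqcPrecoverage S₀ → ∀ D : Desc.SchDDFam f,
      (∀ i, P (D.obj i).hom) → D.IsEffective)
    (hP : P (lift t s).left) (σ' : (yonK Kq S).obj T ⟶ QuotSh.quot Kq s t) :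
    ∃ (Z : Over S) (i : Z ⟶ U ⊗ T), P i.left ∧
      (∀ (T' : Over S) (r : T' ⟶ R ⊗ T),
        (∃ z : T' ⟶ Z, z ≫ i = r ≫ (s ▷ T)) ↔ (∃ z : T' ⟶ Z, z ≫ i = r ≫ (t ▷ T))) ∧
      Flat (i ≫ snd U T).left ∧ Surjective (i ≫ snd U T).left ∧
      QuasiCompact (i ≫ snd U T).left ∧
      (∀ (T' : Over S) (z₁ z₂ : T' ⟶ Z), z₁ ≫ i ≫ snd U T = z₂ ≫ i ≫ snd U T →
        ∃ r : T' ⟶ R, r ≫ s = z₁ ≫ i ≫ fst U T ∧ r ≫ t = z₂ ≫ i ≫ fst U T) ∧
      (yonK Kq S).map (i ≫ fst U T) ≫ q Kq s t = (yonK Kq S).map (i ≫ snd U T) ≫ σ' := by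
  obtain ⟨ι, Ti, c, xi, hcov, hxi⟩ := exists_local_lifts (q Kq s t) σ'
  choose ui hui using fun i => (yonK Kq S).map_surjective (xi i)
  have hcompat : Compat s t Ti c ui := by
    intro i j W k₁ k₂ hk
    rw [← map_q_eq_iff (K := Kq), Functor.map_comp, Functor.map_comp, Category.assoc,
      Category.assoc, hui, hui, ← hxi, ← hxi, ← Category.assoc, ← Category.assoc,
      ← Functor.map_comp, ← Functor.map_comp, hk]
  obtain ⟨Z, ζ, hζ, hsub, hQZ⟩ := exists_isSub s t Ti c ui P hPmono heff hP hcov hcompat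
  have hmono : Mono ζ.left := hPmono _ hζ
  refine ⟨Z, ζ, hζ, fun T' r => hsub.stable hcov r, hQZ @Flat inferInstance,
    hQZ @Surjective inferInstance, hQZ @QuasiCompact inferInstance,
    fun T' z₁ z₂ hz => hsub.rel_of_snd_eq hcov z₁ z₂ hz, ?_⟩
  apply hom_ext_of_cover (fun i => pullback (ζ ≫ snd U T) (c i))
    (fun i => pullback.fst (ζ ≫ snd U T) (c i))
    (pullback_family_mem Scheme.fpqcPrecoverage (ζ ≫ snd U T) Ti c hcov)
  intro i
  have h1 := hsub.rel_of_factors (pullback.fst (ζ ≫ snd U T) (c i)) i (𝟙 _)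
    (pullback.snd (ζ ≫ snd U T) (c i))
    (by rw [Category.id_comp]; exact pullback.condition.symm)
  have h2 : Rel s t (pullback.fst (ζ ≫ snd U T) (c i) ≫ ζ ≫ fst U T)
      (pullback.snd (ζ ≫ snd U T) (c i) ≫ ui i) :=
    h1.symm.congr (by rw [Category.id_comp]) rfl
  rw [← map_q_eq_iff (K := Kq)] at h2
  calc (yonK Kq S).map (pullback.fst (ζ ≫ snd U T) (c i)) ≫
        (yonK Kq S).map (ζ ≫ fst U T) ≫ q Kq s t
      = (yonK Kq S).map (pullback.snd (ζ ≫ snd U T) (c i) ≫ ui i) ≫ q Kq s t := by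
        rw [← h2]
        simp only [Functor.map_comp, Category.assoc]
    _ = (yonK Kq S).map (pullback.snd (ζ ≫ snd U T) (c i) ≫ c i) ≫ σ' := by
        rw [Functor.map_comp, Functor.map_comp, Category.assoc, Category.assoc, hui, hxi]
    _ = (yonK Kq S).map (pullback.fst (ζ ≫ snd U T) (c i)) ≫
          (yonK Kq S).map (ζ ≫ snd U T) ≫ σ' := by
        rw [← pullback.condition, Functor.map_comp, Category.assoc]

/-- **Sections of the fpqc quotient sheaf are the stable subschemes covering the base.** -/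
theorem quotSection_main (P : MorphismProperty Scheme.{u}) [P.IsStableUnderBaseChange]
    [P.IsLocalAtTarget Scheme.fpqcPrecoverage]
    (hPmono : ∀ {X Y : Scheme.{u}} (f : X ⟶ Y), P f → Mono f)
    (heff : ∀ {S₀ : Scheme.{u}} {ι : Type u} {X : ι → Scheme.{u}} (f : ∀ i, X i ⟶ S₀),
      Presieve.ofArrows X f ∈ Scheme.fpqcPrecoverage S₀ → ∀ D : Desc.SchDDFam f,
      (∀ i, P (D.obj i).hom) → D.IsEffective)
    (hP : P (lift t s).left) (T : Over S)
    (σ : QuotSh.rep Kq T ⟶ QuotSh.quot Kq s t) :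
    (∃ (Z : Over S) (i : Z ⟶ U ⊗ T), P i.left ∧
      (∀ (T' : Over S) (r : T' ⟶ R ⊗ T),
        (∃ z : T' ⟶ Z, z ≫ i = r ≫ (s ▷ T)) ↔ (∃ z : T' ⟶ Z, z ≫ i = r ≫ (t ▷ T))) ∧
      Flat (i ≫ snd U T).left ∧ Surjective (i ≫ snd U T).left ∧
      QuasiCompact (i ≫ snd U T).left ∧
      (∀ (T' : Over S) (z₁ z₂ : T' ⟶ Z), z₁ ≫ i ≫ snd U T = z₂ ≫ i ≫ snd U T →
        ∃ r : T' ⟶ R, r ≫ s = z₁ ≫ i ≫ fst U T ∧ r ≫ t = z₂ ≫ i ≫ fst U T) ∧
      QuotSh.repMap Kq (i ≫ fst U T) ≫ QuotSh.quotπ Kq s t =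
        QuotSh.repMap Kq (i ≫ snd U T) ≫ σ) ∧
    (∀ (Z Z' : Over S) (i : Z ⟶ U ⊗ T) (i' : Z' ⟶ U ⊗ T),
      P i.left → P i'.left →
      (∀ (T' : Over S) (r : T' ⟶ R ⊗ T),
        (∃ z : T' ⟶ Z, z ≫ i = r ≫ (s ▷ T)) ↔ (∃ z : T' ⟶ Z, z ≫ i = r ≫ (t ▷ T))) →
      (∀ (T' : Over S) (r : T' ⟶ R ⊗ T),
        (∃ z : T' ⟶ Z', z ≫ i' = r ≫ (s ▷ T)) ↔ (∃ z : T' ⟶ Z', z ≫ i' = r ≫ (t ▷ T))) →
      Flat (i ≫ snd U T).left → Surjective (i ≫ snd U T).left →
      QuasiCompact (i ≫ snd U T).left →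
      Flat (i' ≫ snd U T).left → Surjective (i' ≫ snd U T).left →
      QuasiCompact (i' ≫ snd U T).left →
      (∀ (T' : Over S) (z₁ z₂ : T' ⟶ Z), z₁ ≫ i ≫ snd U T = z₂ ≫ i ≫ snd U T →
        ∃ r : T' ⟶ R, r ≫ s = z₁ ≫ i ≫ fst U T ∧ r ≫ t = z₂ ≫ i ≫ fst U T) →
      (∀ (T' : Over S) (z₁ z₂ : T' ⟶ Z'), z₁ ≫ i' ≫ snd U T = z₂ ≫ i' ≫ snd U T →
        ∃ r : T' ⟶ R, r ≫ s = z₁ ≫ i' ≫ fst U T ∧ r ≫ t = z₂ ≫ i' ≫ fst U T) →
      QuotSh.repMap Kq (i ≫ fst U T) ≫ QuotSh.quotπ Kq s t =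
        QuotSh.repMap Kq (i ≫ snd U T) ≫ σ →
      QuotSh.repMap Kq (i' ≫ fst U T) ≫ QuotSh.quotπ Kq s t =
        QuotSh.repMap Kq (i' ≫ snd U T) ≫ σ →
      ∃ e : Z ≅ Z', e.hom ≫ i' = i) := by
  refine ⟨?_, ?_⟩
  · obtain ⟨Z, i, h1, h2, h3, h4, h5, h6, h7⟩ :=
      exists_sub_of_section s t P hPmono heff hP ((FIso Kq S).hom.app T ≫ σ)
    exact ⟨Z, i, h1, h2, h3, h4, h5, h6, (rep_eq_iff s t _ _ σ).2 h7⟩
  · intro Z Z' i i' hi hi' hst hst' hf hs hq hf' hs' hq' _ _ h7 h7'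
    have hm : Mono i.left := hPmono _ hi
    have hm' : Mono i'.left := hPmono _ hi'
    have hmi : Mono i := (Over.forget S).mono_of_mono_map hm
    have hmi' : Mono i' := (Over.forget S).mono_of_mono_map hm'
    have k7 := (rep_eq_iff s t _ _ σ).1 h7
    have k7' := (rep_eq_iff s t _ _ σ).1 h7'
    obtain ⟨z₁, hz₁⟩ := exists_factor s t i' hst' hf' hs' hq' _ k7' i k7
    obtain ⟨z₂, hz₂⟩ := exists_factor s t i hst hf hs hq _ k7 i' k7'
    refine ⟨⟨z₁, z₂, ?_, ?_⟩, hz₁⟩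
    · rw [← cancel_mono i, Category.assoc, hz₂, hz₁, Category.id_comp]
    · rw [← cancel_mono i', Category.assoc, hz₁, hz₂, Category.id_comp]

end Groth.Agent.H3.QuotFpqc
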